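import Groth.Agent.Lib.RegSmooth17.Basic
import Groth.Agent.Lib.RegLoc.Basic
import Mathlib.RingTheory.EssentialFiniteness
import Mathlib.RingTheory.Filtration
import Mathlib.Algebra.MvPolynomial.Funext
import Mathlib.RingTheory.MvPolynomial.Homogeneous

/-!
A local algebra essentially of finite type over an infinite field, with residue field the ground
field, is regular as soon as truncated curve germs on it can be prolonged.
-/

set_option autoImplicit false
set_option linter.style.haveILetI false

universe u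

open IsLocalRing Polynomial

namespace Groth.Agent.JetLift

variable (k : Type u) [Field k]

/-- cutting down a regular presentation until the relations lie in the square of the maximal ideal -/
theorem exists_minimal_cover (A : Type u) [CommRing A] [IsLocalRing A] [Algebra k A] :
    ∀ (d : ℕ) (P : Type u) [CommRing P] [IsRegularLocalRing P] [Algebra k P]
      (π : P →ₐ[k] A), Function.Surjective π → (maximalIdeal P).spanFinrank = d →
      ∃ (P' : Type u) (_ : CommRing P') (_ : IsRegularLocalRing P') (_ : Algebra k P')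
        (π' : P' →ₐ[k] A), Function.Surjective π' ∧ RingHom.ker π' ≤ maximalIdeal P' ^ 2 := by
  intro d
  induction d using Nat.strong_induction_on with
  | _ d ih =>
    intro P _ _ _ π hπ hd
    by_cases h : RingHom.ker π ≤ maximalIdeal P ^ 2
    · exact ⟨P, _, ‹_›, ‹_›, π, hπ, h⟩
    obtain ⟨x, hx, hx2⟩ := SetLike.not_le_iff_exists.1 h
    have hxm : x ∈ maximalIdeal P := le_maximalIdeal (RingHom.ker_ne_top _) hx
    obtain ⟨_, hlt⟩ := RegLoc.quotient_span_singleton hxm hx2
    let π' : (P ⧸ Ideal.span ({x} : Set P)) →ₐ[k] A := Ideal.Quotient.liftₐ _ π (fun a ha => by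
      exact RingHom.mem_ker.1 ((Ideal.span_singleton_le_iff_mem _).2 hx ha))
    refine ih _ (by omega) _ π' (fun a => ?_) rfl
    obtain ⟨b, rfl⟩ := hπ a
    exact ⟨Ideal.Quotient.mk _ b, rfl⟩

/-- a local algebra essentially of finite type over a field is a quotient of a regular local ring -/
theorem exists_regular_cover (A : Type u) [CommRing A] [IsLocalRing A] [Algebra k A]
    [Algebra.EssFiniteType k A] :
    ∃ (P : Type u) (_ : CommRing P) (_ : IsRegularLocalRing P) (_ : Algebra k P)
      (π : P →ₐ[k] A), Function.Surjective π := by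
  obtain ⟨n, g, hg⟩ := Algebra.FiniteType.iff_quotient_mvPolynomial''.1
    (inferInstance : Algebra.FiniteType k (Algebra.EssFiniteType.subalgebra k A))
  let G : MvPolynomial (Fin n) k →ₐ[k] A := (Algebra.EssFiniteType.subalgebra k A).val.comp g
  let Q : Ideal (MvPolynomial (Fin n) k) := (maximalIdeal A).comap G
  haveI : Q.IsPrime := Ideal.comap_isPrime _ _
  haveI : IsRegularLocalRing (Localization.AtPrime Q) :=
    IsRegularRing.isRegularLocalRing_localization Q
  have hunit : ∀ y : Q.primeCompl, IsUnit (G y) := fun y => notMem_maximalIdeal.1 y.2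
  refine ⟨Localization.AtPrime Q, inferInstance, inferInstance, inferInstance,
    IsLocalization.liftAlgHom (M := Q.primeCompl) (f := G) hunit, fun a => ?_⟩
  obtain ⟨b, s, rfl⟩ :=
    IsLocalization.exists_mk'_eq (Algebra.EssFiniteType.submonoid k A) a
  obtain ⟨b', hb'⟩ := hg b
  obtain ⟨s', hs'⟩ := hg s
  have hs : s' ∈ Q.primeCompl := by
    intro h
    refine (mem_maximalIdeal _).1 (Ideal.mem_comap.1 h) ?_
    show IsUnit (G s')
    simp only [G, AlgHom.comp_apply, hs']
    exact s.2
  refine ⟨IsLocalization.mk' _ b' ⟨s', hs⟩, ?_⟩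
  rw [IsLocalization.liftAlgHom_apply, IsLocalization.lift_mk'_spec]
  have : G s' * IsLocalization.mk' A b s = G b' := by
    simp only [G, AlgHom.comp_apply, hb', hs']
    exact IsLocalization.mk'_spec' _ _ _
  exact this.symm

variable {k} {P : Type u} [CommRing P] [Algebra k P]

/-- a tangent vector as a map to the dual numbers -/
theorem exists_tangent [IsRegularLocalRing P] (ε : P →ₐ[k] k)
    (hε : ∀ a, a - algebraMap k P (ε a) ∈ maximalIdeal P) {d : ℕ}
    (hd : (maximalIdeal P).spanFinrank = d) (x : Fin d → P)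
    (hx : Ideal.span (Set.range x) = maximalIdeal P) (v : Fin d → k)
    (B : Type u) [CommRing B] [Algebra k B] (t : B) (ht : t * t = 0) :
    ∃ φ : P →ₐ[k] B, (∀ a ∈ maximalIdeal P ^ 2, φ a = 0) ∧ ∀ i, φ (x i) = v i • t := by
  classical
  have hε0 : ∀ a ∈ maximalIdeal P, ε a = 0 := fun a ha => by
    by_contra h
    have h1 : algebraMap k P (ε a) ∈ maximalIdeal P := by
      simpa using sub_mem ha (hε a)
    exact (mem_maximalIdeal _).1 h1 ((IsUnit.mk0 _ h).map (algebraMap k P))
  let mk2 : P →ₗ[k] P ⧸ maximalIdeal P ^ 2 := (Ideal.Quotient.mkₐ k _).toLinearMap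
  let T : (Fin d → k) →ₗ[k] P ⧸ maximalIdeal P ^ 2 :=
    Fintype.linearCombination k (fun i => mk2 (x i))
  have hT : LinearMap.ker T = ⊥ := by
    rw [LinearMap.ker_eq_bot']
    intro c hc
    funext i
    have h : mk2 (∑ i, c i • x i) = 0 := by
      rw [map_sum]
      simpa [T, Fintype.linearCombination_apply] using hc
    rw [show mk2 (∑ i, c i • x i) = Ideal.Quotient.mk (maximalIdeal P ^ 2) (∑ i, c i • x i) from rfl,
      Ideal.Quotient.eq_zero_iff_mem] at h
    simp only [Algebra.smul_def, pow_two] at h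
    by_contra hci
    exact (mem_maximalIdeal _).1
      (RegSmooth17.mem_maximalIdeal_of_sum_mem (r := fun i => algebraMap k P (c i)) hd hx h i)
      ((IsUnit.mk0 _ hci).map (algebraMap k P))
  obtain ⟨S, hS⟩ := T.exists_leftInverse_of_injective hT
  let L : P →ₗ[k] k :=
    Fintype.linearCombination k v ∘ₗ S ∘ₗ mk2 ∘ₗ
      (LinearMap.id - Algebra.linearMap k P ∘ₗ ε.toLinearMap)
  have hL2 : ∀ a ∈ maximalIdeal P ^ 2, L a = 0 := fun a ha => by
    have h0 : mk2 a = 0 := Ideal.Quotient.eq_zero_iff_mem.2 ha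
    simp [L, hε0 a (Ideal.pow_le_self two_ne_zero ha), h0]
  have hL1 : ∀ c, L (algebraMap k P c) = 0 := fun c => by simp [L]
  have hmul : ∀ a b, L (a * b) = ε a * L b + ε b * L a := by
    intro a b
    have e : a * b = algebraMap k P (ε a * ε b) + ε a • (b - algebraMap k P (ε b)) +
        ε b • (a - algebraMap k P (ε a)) +
        (a - algebraMap k P (ε a)) * (b - algebraMap k P (ε b)) := by
      simp only [Algebra.smul_def, map_mul]
      ring
    have h3 : L ((a - algebraMap k P (ε a)) * (b - algebraMap k P (ε b))) = 0 :=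
      hL2 _ (by rw [pow_two]; exact Ideal.mul_mem_mul (hε a) (hε b))
    rw [e, map_add, map_add, map_add, map_smul, map_smul, hL1, h3, map_sub, map_sub, hL1, hL1,
      smul_eq_mul, smul_eq_mul]
    ring
  let φ : P →ₐ[k] B := AlgHom.ofLinearMap
    (Algebra.linearMap k B ∘ₗ ε.toLinearMap + (LinearMap.toSpanSingleton k B t) ∘ₗ L)
    (by simp [show L 1 = 0 by simpa using hL1 1])
    (fun a b => by
      simp only [LinearMap.add_apply, LinearMap.comp_apply, AlgHom.toLinearMap_apply,
        Algebra.linearMap_apply, LinearMap.toSpanSingleton_apply, hmul, map_mul, Algebra.smul_def,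
        map_add]
      linear_combination (-(algebraMap k B (L a) * algebraMap k B (L b))) * ht)
  refine ⟨φ, fun a ha => ?_, fun i => ?_⟩
  · simp [φ, hL2 a ha, hε0 a (Ideal.pow_le_self two_ne_zero ha)]
  · have hxi : x i ∈ maximalIdeal P := hx ▸ Ideal.subset_span ⟨i, rfl⟩
    have h1 : S (mk2 (x i)) = Pi.single i 1 := by
      have := LinearMap.congr_fun hS (Pi.single i 1)
      simpa [T, Fintype.linearCombination_apply_single] using this
    simp [φ, L, hε0 _ hxi, h1, Fintype.linearCombination_apply_single]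

/-- powers of the maximal ideal are spanned by forms in generators, with constant coefficients -/
theorem exists_homogeneous (ε : P → k) [IsLocalRing P]
    (hε : ∀ a, a - algebraMap k P (ε a) ∈ maximalIdeal P) {d : ℕ} (x : Fin d → P)
    (hx : Ideal.span (Set.range x) = maximalIdeal P) :
    ∀ (e : ℕ), ∀ a ∈ maximalIdeal P ^ e, ∃ F : MvPolynomial (Fin d) k,
      F.IsHomogeneous e ∧ a - MvPolynomial.aeval x F ∈ maximalIdeal P ^ (e + 1) := by
  intro e
  induction e with
  | zero =>
    intro a _
    exact ⟨MvPolynomial.C (ε a), MvPolynomial.isHomogeneous_C _ _, by simpa using hε a⟩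
  | succ e ih =>
    intro a ha
    rw [pow_succ] at ha
    induction ha using Submodule.mul_induction_on' with
    | mem_mul_mem y hy z hz =>
      obtain ⟨F, hF, hF'⟩ := ih y hy
      have hz' : z ∈ Submodule.span P (Set.range x) := hx.ge hz
      obtain ⟨r, hr⟩ := (Submodule.mem_span_range_iff_exists_fun P).1 hz'
      let G : MvPolynomial (Fin d) k := ∑ i, MvPolynomial.C (ε (r i)) * MvPolynomial.X i
      have hG : G.IsHomogeneous 1 := MvPolynomial.IsHomogeneous.sum _ _ _ fun i _ =>
        (MvPolynomial.isHomogeneous_X _ i).C_mul _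
      have hG' : z - MvPolynomial.aeval x G ∈ maximalIdeal P ^ 2 := by
        simp only [G, map_sum, map_mul, MvPolynomial.aeval_C, MvPolynomial.aeval_X, ← hr,
          smul_eq_mul, ← Finset.sum_sub_distrib, ← sub_mul, pow_two]
        exact sum_mem fun i _ => Ideal.mul_mem_mul (hε _) (hx ▸ Ideal.subset_span ⟨i, rfl⟩)
      refine ⟨F * G, hF.mul hG, ?_⟩
      have hG1 : MvPolynomial.aeval x G ∈ maximalIdeal P := by
        simpa using sub_mem hz (Ideal.pow_le_self two_ne_zero hG')
      rw [map_mul, show y * z - MvPolynomial.aeval x F * MvPolynomial.aeval x G =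
        y * (z - MvPolynomial.aeval x G) + (y - MvPolynomial.aeval x F) * MvPolynomial.aeval x G by ring]
      refine add_mem ?_ ?_
      · rw [show e + 1 + 1 = e + 2 from rfl, pow_add]
        exact Ideal.mul_mem_mul hy hG'
      · rw [pow_succ _ (e + 1)]
        exact Ideal.mul_mem_mul hF' hG1
    | add y _ z _ hy hz =>
      obtain ⟨F, hF, hF'⟩ := hy
      obtain ⟨G, hG, hG'⟩ := hz
      exact ⟨F + G, hF.add hG, by rw [map_add, add_sub_add_comm]; exact add_mem hF' hG'⟩

theorem aeval_mul_left {R : Type u} [CommRing R] [Algebra k R] {d e : ℕ}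
    {F : MvPolynomial (Fin d) k} (hF : F.IsHomogeneous e) (t : R) (y : Fin d → R) :
    MvPolynomial.aeval (fun i => t * y i) F = t ^ e * MvPolynomial.aeval y F := by
  rw [F.as_sum, map_sum, map_sum, Finset.mul_sum]
  refine Finset.sum_congr rfl fun m hm => ?_
  rw [MvPolynomial.aeval_monomial, MvPolynomial.aeval_monomial]
  simp only [mul_pow]
  rw [Finsupp.prod_mul, mul_left_comm]
  congr 2
  rw [Finsupp.prod, Finset.prod_pow_eq_pow_sum]
  congr 1
  rw [← hF (MvPolynomial.mem_support_iff.1 hm), Finsupp.weight_apply]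
  simp [Finsupp.sum]

/-- Prolongation of jets of curves implies regularity. -/
theorem isRegularLocalRing_of_jets_lift [Infinite k] (A : Type u) [CommRing A] [IsLocalRing A]
    [Algebra k A] [Algebra.EssFiniteType k A] (ε : A →ₐ[k] k)
    (hε : ∀ a, a - algebraMap k A (ε a) ∈ maximalIdeal A)
    (hlift : ∀ (l : ℕ), 1 ≤ l → ∀ φ : A →ₐ[k] (k[X] ⧸ Ideal.span {(X : k[X]) ^ l}),
      ∃ ψ : A →ₐ[k] (k[X] ⧸ Ideal.span {(X : k[X]) ^ (l + 1)}),
        (Ideal.Quotient.factorₐ k (Ideal.span_singleton_le_span_singleton.mpr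
          (pow_dvd_pow (X : k[X]) (Nat.le_succ l)))).comp ψ = φ) :
    IsRegularLocalRing A := by
  classical
  obtain ⟨P₀, _, _, _, π₀, hπ₀⟩ := exists_regular_cover k A
  obtain ⟨P, _, _, _, π, hπ, hker⟩ := exists_minimal_cover k A _ P₀ π₀ hπ₀ rfl
  have : IsLocalHom π.toRingHom := IsLocalHom.of_surjective _ hπ
  let εP : P →ₐ[k] k := ε.comp π
  have hεP : ∀ a, a - algebraMap k P (εP a) ∈ maximalIdeal P := fun a => by
    by_contra h
    have h1 : IsUnit (π (a - algebraMap k P (εP a))) := (notMem_maximalIdeal.1 h).map π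
    rw [map_sub, AlgHom.commutes] at h1
    exact (mem_maximalIdeal _).1 (hε (π a)) h1
  obtain ⟨d, hd⟩ : ∃ d, (maximalIdeal P).spanFinrank = d := ⟨_, rfl⟩
  obtain ⟨x, hx⟩ : ∃ x : Fin d → P, Ideal.span (Set.range x) = maximalIdeal P :=
    hd ▸ RegLoc.exists_fin_generators P
  suffices hinj : Function.Injective π from
    IsRegularLocalRing.of_ringEquiv (RingEquiv.ofBijective π.toRingHom ⟨hinj, hπ⟩)
  rw [injective_iff_map_eq_zero]
  intro f hf
  by_contra hf0
  have hex : ∃ n, f ∉ maximalIdeal P ^ n := by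
    by_contra h
    push Not at h
    have := Ideal.iInf_pow_eq_bot_of_isLocalRing (R := P) (maximalIdeal P) (maximalIdeal.isMaximal P).ne_top
    exact hf0 ((Submodule.mem_bot _).1 (this.le ((Submodule.mem_iInf _).2 h)))
  obtain ⟨e, he⟩ : ∃ e, Nat.find hex = e + 1 := ⟨Nat.find hex - 1, by
    have : Nat.find hex ≠ 0 := fun h => by simpa [h] using Nat.find_spec hex
    omega⟩
  have hfe : f ∈ maximalIdeal P ^ e := by
    by_contra h
    have := Nat.find_min' hex h
    omega
  obtain ⟨F, hF, hFf⟩ := exists_homogeneous (k := k) εP hεP x hx e f hfe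
  have hF0 : F ≠ 0 := fun h => by
    refine (he ▸ Nat.find_spec hex : f ∉ maximalIdeal P ^ (e + 1)) ?_
    simpa [h] using hFf
  obtain ⟨v, hv⟩ : ∃ v : Fin d → k, MvPolynomial.eval v F ≠ 0 := by
    by_contra h
    push Not at h
    exact hF0 (MvPolynomial.funext fun v => by simpa using h v)
  have key : ∀ n : ℕ, ∃ φ : A →ₐ[k] (k[X] ⧸ Ideal.span {(X : k[X]) ^ (n + 2)}),
      ∀ i, ∃ r : k[X], φ (π (x i)) = Ideal.Quotient.mk _ (X * r) ∧ r.coeff 0 = v i := by
    intro n
    induction n with
    | zero =>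
      obtain ⟨φ, hφ2, hφx⟩ := exists_tangent εP hεP hd x hx v (k[X] ⧸ Ideal.span {(X : k[X]) ^ (0 + 2)})
        (Ideal.Quotient.mk _ X) (by
          rw [← map_mul, Ideal.Quotient.eq_zero_iff_mem, Ideal.mem_span_singleton, ← pow_two])
      let φA : A →ₐ[k] (k[X] ⧸ Ideal.span {(X : k[X]) ^ (0 + 2)}) :=
        (Ideal.Quotient.liftₐ (RingHom.ker π) φ (fun a ha => hφ2 a (hker ha))).comp
          (Ideal.quotientKerAlgEquivOfSurjective hπ).symm.toAlgHom
      refine ⟨φA, fun i => ⟨Polynomial.C (v i), ?_, by simp⟩⟩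
      have : (Ideal.quotientKerAlgEquivOfSurjective hπ).symm (π (x i)) = Ideal.Quotient.mk _ (x i) := by
        rw [AlgEquiv.symm_apply_eq]
        rfl
      simp only [φA, AlgHom.comp_apply, AlgEquiv.coe_toAlgHom, this]
      change φ (x i) = _
      rw [hφx, mul_comm, map_mul, Algebra.smul_def]
      rfl
    | succ n ih =>
      obtain ⟨φ, hφ⟩ := ih
      obtain ⟨ψ, hψ⟩ := hlift (n + 2) (by omega) φ
      refine ⟨ψ, fun i => ?_⟩
      obtain ⟨r, hr, hr0⟩ := hφ i
      obtain ⟨p, hp⟩ := Ideal.Quotient.mk_surjective (ψ (π (x i)))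
      have h1 : Ideal.Quotient.mk (Ideal.span {(X : k[X]) ^ (n + 2)}) p =
          Ideal.Quotient.mk _ (X * r) := by
        rw [← hr, ← hψ, AlgHom.comp_apply, ← hp]
        rfl
      rw [Ideal.Quotient.eq, Ideal.mem_span_singleton] at h1
      obtain ⟨q, hq⟩ := h1
      refine ⟨r + X ^ (n + 1) * q, ?_, by simp [hr0]⟩
      rw [← hp]
      congr 1
      linear_combination hq
  obtain ⟨φ, hφ⟩ := key e
  choose r hr hr0 using hφ
  let Ψ : P →ₐ[k] (k[X] ⧸ Ideal.span {(X : k[X]) ^ (e + 2)}) := φ.comp π
  have hm : (maximalIdeal P).map Ψ ≤ Ideal.span {Ideal.Quotient.mk _ (X : k[X])} := by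
    rw [← hx, Ideal.map_span, Ideal.span_le]
    rintro _ ⟨_, ⟨i, rfl⟩, rfl⟩
    exact Ideal.mem_span_singleton.2 ⟨Ideal.Quotient.mk _ (r i), by
      change φ (π (x i)) = _; rw [hr i, map_mul]⟩
  have h2 : Ψ (f - MvPolynomial.aeval x F) ∈
      Ideal.span {Ideal.Quotient.mk (Ideal.span {(X : k[X]) ^ (e + 2)}) (X : k[X]) ^ (e + 1)} := by
    refine (Ideal.span_singleton_pow _ _).le (Ideal.pow_right_mono hm _ ?_)
    rw [← Ideal.map_pow]
    exact Ideal.mem_map_of_mem _ hFf
  have h3 : Ψ (MvPolynomial.aeval x F) =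
      Ideal.Quotient.mk _ ((X : k[X]) ^ e * MvPolynomial.aeval r F) := by
    rw [← aeval_mul_left hF (X : k[X]) r, ← Ideal.Quotient.mkₐ_eq_mk k, ← AlgHom.comp_apply,
      ← AlgHom.comp_apply]
    congr 1
    refine MvPolynomial.algHom_ext fun i => ?_
    simp [Ψ, hr i]
  rw [map_sub, show Ψ f = 0 by simp [Ψ, hf], zero_sub, h3, neg_mem_iff, ← map_pow,
    Ideal.mem_span_singleton'] at h2
  obtain ⟨a, ha⟩ := h2
  obtain ⟨a, rfl⟩ := Ideal.Quotient.mk_surjective a
  rw [← map_mul, Ideal.Quotient.eq, Ideal.mem_span_singleton] at ha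
  obtain ⟨b, hb⟩ := ha
  have h4 : (X : k[X]) ^ e * MvPolynomial.aeval r F = X ^ (e + 1) * (a - X * b) := by
    linear_combination -hb
  rw [pow_succ, mul_assoc] at h4
  have h5 := congrArg (fun p => Polynomial.coeff p 0) (mul_left_cancel₀ (pow_ne_zero e X_ne_zero) h4)
  have h6 : (MvPolynomial.aeval r F).coeff 0 = MvPolynomial.eval v F := by
    rw [Polynomial.coeff_zero_eq_eval_zero, ← Polynomial.coe_aeval_eq_eval, ← AlgHom.comp_apply,
      MvPolynomial.comp_aeval, ← MvPolynomial.aeval_eq_eval]
    congr 1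
    refine MvPolynomial.algHom_ext fun i => ?_
    simp [← Polynomial.coeff_zero_eq_eval_zero, hr0 i]
  simp only [h6, Polynomial.coeff_X_mul_zero] at h5
  exact hv h5

/-- Regular local algebras essentially of finite type over a perfect field are formally smooth. -/
theorem formallySmooth_of_regular [PerfectField k] (A : Type u) [CommRing A]
    [Algebra k A] [Algebra.EssFiniteType k A] [IsRegularLocalRing A] :
    Algebra.FormallySmooth k A := by
  let B := Algebra.EssFiniteType.subalgebra k A
  let q : Ideal B := (maximalIdeal A).comap (algebraMap B A)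
  haveI : q.IsPrime := Ideal.comap_isPrime _ _
  have hM : Algebra.EssFiniteType.submonoid k A = q.primeCompl := by
    ext b
    exact notMem_maximalIdeal.symm
  haveI : IsLocalization q.primeCompl A := hM ▸ Algebra.EssFiniteType.isLocalization k A
  let e : Localization.AtPrime q ≃ₐ[B] A := IsLocalization.algEquiv q.primeCompl _ _
  haveI : IsRegularLocalRing (Localization.AtPrime q) :=
    IsRegularLocalRing.of_ringEquiv e.symm.toRingEquiv
  haveI : Algebra.EssFiniteType k q.ResidueField :=
    Algebra.EssFiniteType.comp k B q.ResidueField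
  haveI : Algebra.FormallySmooth k (Localization.AtPrime q) :=
    RegSmooth17.isSmoothAt_of_isRegularLocalRing k B q
  exact Algebra.FormallySmooth.of_equiv (e.restrictScalars k)

end Groth.Agent.JetLift

namespace Groth.Agent.JetLift

theorem exists_augmentation {k : Type u} [Field k] (A : Type u) [CommRing A] [IsLocalRing A]
    [Algebra k A] (hres : Function.Surjective (algebraMap k (ResidueField A))) :
    ∃ ε : A →ₐ[k] k, ∀ a, a - algebraMap k A (ε a) ∈ maximalIdeal A := by
  let e : k ≃ₐ[k] ResidueField A :=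
    AlgEquiv.ofBijective (Algebra.ofId k _) ⟨(algebraMap k (ResidueField A)).injective, hres⟩
  refine ⟨e.symm.toAlgHom.comp (IsScalarTower.toAlgHom k A (ResidueField A)), fun a => ?_⟩
  rw [← residue_eq_zero_iff, map_sub, sub_eq_zero]
  exact (e.apply_symm_apply (residue A a)).symm

end Groth.Agent.JetLift
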